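import Cfsg.Agent.Cam.F42.Tab
import Cfsg.Agent.Nodes.KindBase

/-!
# S3689, S3690, the row `²F₄(q)`: self-dual Levi subsystems of `F₄` (helper90)

`comb` : let `Λ` be a proper sublattice, saturated at `2` and `3`, whose roots `Ψ ≠ ∅` are permuted by a map `g` that
interchanges the lengths.  Then `Ψ` is of type `A₁ Ã₁` or `B₂`, some `w ∈ W` interchanges `Ψ` and `Θ = Ψ^⊥`, and the
stabilizer of `Ψ` and `Θ` is generated by the reflections of `Ψ ∪ Θ`.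
-/

set_option autoImplicit false
set_option linter.unusedSectionVars false

namespace Cfsg.Agent.Cam.F42

open CoxeterSystem Cfsg.Lie Cfsg.Agent.ChevalleyStructure Cfsg.Agent.ChevalleyStructure.CoxeterGeom
  Cfsg.Agent.ChevalleyStructure.CoxeterGeomTypes Cfsg.Agent.Tits.Roots Cfsg.Agent.Nodes.Coroot
  Cfsg.Agent.Nodes.RGDChev Cfsg.Agent.Nodes.KindF Cfsg.Agent.Nodes.KindChev Cfsg.Agent.UGT.U2.FOne.FFour

/-! ### vectors -/

/-- the invariant form -/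
def bf (a b : Fin 4 → ℤ) : ℤ := ip (vt a) (vt b)

/-- the determinant -/
def dv (a b c e : Fin 4 → ℤ) : ℤ := dt (vt a) (vt b) (vt c) (vt e)

/-- long roots -/
def Lg (a : Fin 4 → ℤ) : Prop := vt a ∈ LL

/-- short roots -/
def Sh (a : Fin 4 → ℤ) : Prop := vt a ∈ SS

/-- equal up to sign -/
def PM (a b : Fin 4 → ℤ) : Prop := a = b ∨ a = -b

theorem vt_tv (t : T4) : vt (tv t) = t := rfl

theorem vt_inj {a b : Fin 4 → ℤ} (h : vt a = vt b) : a = b := by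
  simp only [vt, Prod.mk.injEq] at h
  funext i
  fin_cases i
  exacts [h.1, h.2.1, h.2.2.1, h.2.2.2]

theorem pm_of {a b : Fin 4 → ℤ} (h : vt a = vt b ∨ vt a = ng (vt b)) : PM a b :=
  h.imp vt_inj fun h => vt_inj (b := -b) h

theorem bf_comm (a b : Fin 4 → ℤ) : bf a b = bf b a := by
  simp only [bf, ip, vt]; ring

theorem bf_add (a b c : Fin 4 → ℤ) : bf (a + b) c = bf a c + bf b c := by
  simp only [bf, ip, vt, Pi.add_apply]; ring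

theorem bf_sub (a b c : Fin 4 → ℤ) : bf (a - b) c = bf a c - bf b c := by
  simp only [bf, ip, vt, Pi.sub_apply]; ring

theorem bf_neg (a c : Fin 4 → ℤ) : bf (-a) c = -bf a c := by
  simp only [bf, ip, vt, Pi.neg_apply]; ring

theorem bf_smul (n : ℤ) (a c : Fin 4 → ℤ) : bf (n • a) c = n * bf a c := by
  simp only [bf, ip, vt, Pi.smul_apply, smul_eq_mul]; ring

theorem cramer (a b c e y : Fin 4 → ℤ) :
    dv a b c e • y = dv y b c e • a + dv a y c e • b + dv a b y e • c + dv a b c y • e := by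
  apply vt_inj
  simp only [vt, dv, dt, pr, pl, Pi.add_apply, Pi.smul_apply, smul_eq_mul, Prod.mk.injEq]
  refine ⟨?_, ?_, ?_, ?_⟩ <;> ring

theorem qf_eq (a b : Fin 4 → ℤ) : qf AF d a b = bf a b := by
  have h : AF = ![![2, -1, 0, 0], ![-1, 2, -2, 0], ![0, -1, 2, -1], ![0, 0, -1, 2]] := by decide +kernel
  rw [h]
  simp [qf, pairing, d, Fin.sum_univ_four, bf, ip, vt]
  ring

theorem Lg.bf {a : Fin 4 → ℤ} (h : Lg a) : bf a a = 4 := tab_L _ h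

theorem Sh.bf {a : Fin 4 → ℤ} (h : Sh a) : bf a a = 2 := tab_S _ h

theorem PM.refl (a : Fin 4 → ℤ) : PM a a := Or.inl rfl

theorem PM.symm {a b : Fin 4 → ℤ} (h : PM a b) : PM b a := by
  rcases h with rfl | rfl
  · exact Or.inl rfl
  · exact Or.inr (_root_.neg_neg _).symm

theorem PM.trans {a b c : Fin 4 → ℤ} (h : PM a b) (h' : PM b c) : PM a c := by
  rcases h with rfl | rfl
  · exact h'
  · rcases h' with rfl | rfl
    · exact Or.inr rfl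
    · exact Or.inl (_root_.neg_neg _)

theorem PM.orth {a b c : Fin 4 → ℤ} (h : PM a b) : bf a c = 0 ↔ bf b c = 0 := by
  rcases h with rfl | rfl
  · rfl
  · rw [bf_neg, neg_eq_zero]

theorem PM.map {a b : Fin 4 → ℤ} (h : PM a b) (f : (Fin 4 → ℤ) →ₗ[ℤ] (Fin 4 → ℤ)) : PM (f a) (f b) := by
  rcases h with rfl | rfl
  · exact Or.inl rfl
  · exact Or.inr (map_neg f b)

/-! ### roots and reflections -/

variable {W : Type} [Group W] (cs : CoxeterSystem CoxeterMatrix.F₄ W)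

/-- roots -/
abbrev Rt (a : Fin 4 → ℤ) : Prop := IsRoot cs isType.isCartan a

/-- the action of the Weyl group -/
noncomputable abbrev ac (w : W) : (Fin 4 → ℤ) →ₗ[ℤ] (Fin 4 → ℤ) := rep cs isType.isCartan w

/-- `s` is the reflection of `k` -/
def IsRf (s : W) (k : Fin 4 → ℤ) : Prop := ∀ x, ac cs s x = x - cpr cs isType.isCartan x k • k

theorem rt_iff {a : Fin 4 → ℤ} : Rt cs a ↔ Lg a ∨ Sh a := by
  rw [Rt, isRoot_iff isType cs, H899.RG.Short.nroots]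
  constructor
  · rintro ⟨r, hr, rfl⟩
    exact tab_vec r hr
  · intro h
    obtain ⟨r, hr, e⟩ := tab_vec' (vt a) (List.mem_append.2 h)
    exact ⟨r, hr, vt_inj e⟩

theorem Lg.rt {a : Fin 4 → ℤ} (h : Lg a) : Rt cs a := (rt_iff cs).2 (Or.inl h)

theorem Sh.rt {a : Fin 4 → ℤ} (h : Sh a) : Rt cs a := (rt_iff cs).2 (Or.inr h)

variable {cs}

theorem lg_of {a : Fin 4 → ℤ} (h : Rt cs a) (h4 : bf a a = 4) : Lg a :=
  ((rt_iff cs).1 h).resolve_right fun h2 => by have := h2.bf; omega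

theorem sh_of {a : Fin 4 → ℤ} (h : Rt cs a) (h2 : bf a a = 2) : Sh a :=
  ((rt_iff cs).1 h).resolve_left fun h4 => by have := h4.bf; omega

theorem bf_ne {a : Fin 4 → ℤ} (h : Rt cs a) : bf a a ≠ 0 := by
  rcases (rt_iff cs).1 h with h | h <;> rw [h.bf] <;> norm_num

theorem bf_ac (w : W) (a b : Fin 4 → ℤ) : bf (ac cs w a) (ac cs w b) = bf a b := by
  rw [← qf_eq, ← qf_eq]
  exact qf_rep cs isType.isCartan kd.hd w a b

theorem cpr_bf {k : Fin 4 → ℤ} (hk : Rt cs k) (x : Fin 4 → ℤ) : cpr cs isType.isCartan x k * bf k k = 2 * bf x k := by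
  rw [← qf_eq, ← qf_eq]
  exact H899.RG.Short.cpr_qf cs hk

theorem cpr_eq_zero {k : Fin 4 → ℤ} (hk : Rt cs k) (x : Fin 4 → ℤ) : cpr cs isType.isCartan x k = 0 ↔ bf x k = 0 := by
  have h1 := cpr_bf hk x
  constructor
  · intro h
    rw [h] at h1
    omega
  · intro h
    rw [h, mul_zero] at h1
    exact (mul_eq_zero.1 h1).resolve_right (bf_ne hk)

theorem Lg.ac {a : Fin 4 → ℤ} (h : Lg a) (w : W) : Lg (ac cs w a) :=
  lg_of ((h.rt cs).act w) ((bf_ac w a a).trans h.bf)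

theorem Sh.ac {a : Fin 4 → ℤ} (h : Sh a) (w : W) : Sh (ac cs w a) :=
  sh_of ((h.rt cs).act w) ((bf_ac w a a).trans h.bf)

theorem ac_mul (v w : W) (x : Fin 4 → ℤ) : ac cs (v * w) x = ac cs v (ac cs w x) := rep_mul_apply cs _ v w x

theorem exists_rf {k : Fin 4 → ℤ} (hk : Rt cs k) : ∃ s, IsRf cs s k := by
  have : Finite W := finite_W isType cs
  exact Nodes.KindBase.exists_refl cs _ hk

theorem IsRf.orth {s : W} {k : Fin 4 → ℤ} (h : IsRf cs s k) (hk : Rt cs k) {x : Fin 4 → ℤ} (hx : bf x k = 0) :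
    ac cs s x = x := by
  rw [h, (cpr_eq_zero hk x).2 hx, zero_smul, sub_zero]

theorem IsRf.self {s : W} {k : Fin 4 → ℤ} (h : IsRf cs s k) (hk : Rt cs k) : ac cs s k = -k := by
  have h1 := cpr_bf hk k
  rw [h, mul_right_cancel₀ (bf_ne hk) h1, two_smul]
  abel

/-- `s` interchanges `y₁` and `y₂` and fixes their orthogonal complement -/
structure Swp (cs : CoxeterSystem CoxeterMatrix.F₄ W) (s : W) (y₁ y₂ : Fin 4 → ℤ) : Prop where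
  e1 : ac cs s y₁ = y₂
  e2 : ac cs s y₂ = y₁
  fx : ∀ z, bf z y₁ = 0 → bf z y₂ = 0 → ac cs s z = z

theorem swp_of {s : W} {k y₁ y₂ : Fin 4 → ℤ} (hs : IsRf cs s k) (hk : Rt cs k) {n : ℤ} (hn : n ≠ 0)
    (e : n • k = y₁ - y₂) (h0 : bf y₁ y₂ = 0) (h1 : bf y₁ y₁ = bf y₂ y₂) : Swp cs s y₁ y₂ := by
  have a1 : n * bf k y₁ = bf y₁ y₁ := by rw [← bf_smul, e, bf_sub, bf_comm y₂, h0, sub_zero]
  have a2 : n * bf k y₂ = -bf y₁ y₁ := by rw [← bf_smul, e, bf_sub, h0, h1, zero_sub]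
  have a3 : n * bf k k = bf k y₁ - bf k y₂ := by rw [← bf_smul, e, bf_sub, bf_comm y₁, bf_comm y₂]
  have a4 : bf k y₂ = -bf k y₁ := mul_left_cancel₀ hn (by rw [a2, mul_neg, a1])
  have c1 : cpr cs isType.isCartan y₁ k = n :=
    mul_right_cancel₀ (bf_ne hk) (by rw [cpr_bf hk, a3, a4, bf_comm y₁]; ring)
  have c2 : cpr cs isType.isCartan y₂ k = -n :=
    mul_right_cancel₀ (bf_ne hk) (by rw [cpr_bf hk, neg_mul, a3, bf_comm y₂, a4]; ring)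
  refine ⟨by rw [hs, c1, e]; abel, by rw [hs, c2, neg_smul, e]; abel, fun z z1 z2 => hs.orth hk ?_⟩
  have a5 : n * bf k z = 0 := by rw [← bf_smul, e, bf_sub, bf_comm y₁, bf_comm y₂, z1, z2, sub_zero]
  rw [bf_comm]
  exact (mul_eq_zero.1 a5).resolve_left hn

theorem exists_half {y₁ y₂ : Fin 4 → ℤ} (h1 : Lg y₁) (h2 : Lg y₂) (h0 : bf y₁ y₂ = 0) :
    ∃ k, Sh k ∧ (2 : ℤ) • k = y₁ - y₂ := by
  obtain ⟨u, hu, e⟩ := tab_1 _ h1 _ h2 h0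
  exact ⟨tv u, hu, by rw [two_smul]; exact vt_inj e⟩

theorem exists_swpL {y₁ y₂ : Fin 4 → ℤ} (h1 : Lg y₁) (h2 : Lg y₂) (h0 : bf y₁ y₂ = 0) : ∃ s, Swp cs s y₁ y₂ := by
  obtain ⟨k, hk, e⟩ := exists_half h1 h2 h0
  obtain ⟨s, hs⟩ := exists_rf (hk.rt cs)
  exact ⟨s, swp_of hs (hk.rt cs) two_ne_zero e h0 (by rw [h1.bf, h2.bf])⟩

theorem exists_swpS {y₁ y₂ : Fin 4 → ℤ} (h1 : Sh y₁) (h2 : Sh y₂) (h0 : bf y₁ y₂ = 0) : ∃ s, Swp cs s y₁ y₂ := by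
  have hk : Lg (y₁ - y₂) := tab_2 _ h1 _ h2 h0
  obtain ⟨s, hs⟩ := exists_rf (hk.rt cs)
  exact ⟨s, swp_of hs (hk.rt cs) one_ne_zero (one_smul _ _) h0 (by rw [h1.bf, h2.bf])⟩

/-! ### orthogonal frames -/

/-- four mutually orthogonal roots -/
structure Frm (cs : CoxeterSystem CoxeterMatrix.F₄ W) (x₁ x₂ x₃ x₄ : Fin 4 → ℤ) : Prop where
  r1 : Rt cs x₁
  r2 : Rt cs x₂
  r3 : Rt cs x₃
  r4 : Rt cs x₄
  o12 : bf x₁ x₂ = 0
  o31 : bf x₃ x₁ = 0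
  o32 : bf x₃ x₂ = 0
  o41 : bf x₄ x₁ = 0
  o42 : bf x₄ x₂ = 0
  o43 : bf x₄ x₃ = 0
  dvd : dv x₁ x₂ x₃ x₄ ∣ 24

variable {x₁ x₂ x₃ x₄ : Fin 4 → ℤ}

theorem Frm.dv_ne (h : Frm cs x₁ x₂ x₃ x₄) : dv x₁ x₂ x₃ x₄ ≠ 0 := fun h0 => by
  have := h.dvd
  rw [h0, zero_dvd_iff] at this
  norm_num at this

theorem Frm.span (h : Frm cs x₁ x₂ x₃ x₄) {y : Fin 4 → ℤ} (h3 : bf y x₃ = 0) (h4 : bf y x₄ = 0) :
    ∃ c₁ c₂ : ℤ, dv x₁ x₂ x₃ x₄ • y = c₁ • x₁ + c₂ • x₂ := by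
  have e := cramer x₁ x₂ x₃ x₄ y
  have e3 := congrArg (bf · x₃) e
  have e4 := congrArg (bf · x₄) e
  simp only [bf_add, bf_smul, h3, h4, bf_comm x₁ x₃, bf_comm x₂ x₃, bf_comm x₁ x₄, bf_comm x₂ x₄, bf_comm x₃ x₄, h.o31,
    h.o32, h.o41, h.o42, h.o43, mul_zero, zero_add, add_zero] at e3 e4
  rw [(mul_eq_zero.1 e3.symm).resolve_right (bf_ne h.r3), (mul_eq_zero.1 e4.symm).resolve_right (bf_ne h.r4),
    zero_smul, zero_smul, add_zero, add_zero] at e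
  exact ⟨_, _, e⟩

theorem Frm.eq_one (h : Frm cs x₁ x₂ x₃ x₄) {v : W} (h1 : ac cs v x₁ = x₁) (h2 : ac cs v x₂ = x₂)
    (h3 : ac cs v x₃ = x₃) (h4 : ac cs v x₄ = x₄) : v = 1 := by
  refine eq_one_of_fix cs isType.isCartan v fun i => ?_
  have e := congrArg (ac cs v) (cramer x₁ x₂ x₃ x₄ (sr i))
  rw [map_add, map_add, map_add, map_smul, map_smul, map_smul, map_smul, map_smul, h1, h2, h3, h4, ← cramer] at e
  exact smul_right_injective _ h.dv_ne e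

/-- removing a sign -/
theorem step {H : Subgroup W} {v : W} {x : Fin 4 → ℤ} (hx : Rt cs x) (hH : ∃ s ∈ H, IsRf cs s x)
    (hv : PM (ac cs v x) x) : ∃ v', (v' ∈ H → v ∈ H) ∧ ac cs v' x = x ∧
      ∀ z, bf (ac cs v z) x = 0 → ac cs v' z = ac cs v z := by
  rcases hv with hv | hv
  · exact ⟨v, id, hv, fun _ _ => rfl⟩
  · obtain ⟨s, hs, hr⟩ := hH
    refine ⟨s * v, fun h => (H.mul_mem_cancel_left hs).1 h, ?_, fun z hz => ?_⟩
    · rw [ac_mul, hv, map_neg, hr.self hx, _root_.neg_neg]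
    · rw [ac_mul, hr.orth hx hz]

theorem Frm.mem (h : Frm cs x₁ x₂ x₃ x₄) {H : Subgroup W} (s1 : ∃ s ∈ H, IsRf cs s x₁) (s2 : ∃ s ∈ H, IsRf cs s x₂)
    (s3 : ∃ s ∈ H, IsRf cs s x₃) (s4 : ∃ s ∈ H, IsRf cs s x₄) {v : W} (h1 : PM (ac cs v x₁) x₁)
    (h2 : PM (ac cs v x₂) x₂) (h3 : PM (ac cs v x₃) x₃) (h4 : PM (ac cs v x₄) x₄) : v ∈ H := by
  have o21 := (bf_comm _ _).trans h.o12
  have o13 := (bf_comm _ _).trans h.o31
  have o23 := (bf_comm _ _).trans h.o32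
  obtain ⟨v₁, m1, a1, b1⟩ := step h.r1 s1 h1
  rw [← b1 _ (h2.orth.2 o21)] at h2
  rw [← b1 _ (h3.orth.2 h.o31)] at h3
  rw [← b1 _ (h4.orth.2 h.o41)] at h4
  obtain ⟨v₂, m2, a2, b2⟩ := step h.r2 s2 h2
  rw [← b2 _ (a1.symm ▸ h.o12)] at a1
  rw [← b2 _ (h3.orth.2 h.o32)] at h3
  rw [← b2 _ (h4.orth.2 h.o42)] at h4
  obtain ⟨v₃, m3, a3, b3⟩ := step h.r3 s3 h3
  rw [← b3 _ (a1.symm ▸ o13)] at a1
  rw [← b3 _ (a2.symm ▸ o23)] at a2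
  rw [← b3 _ (h4.orth.2 h.o43)] at h4
  obtain ⟨v₄, m4, a4, b4⟩ := step h.r4 s4 h4
  rw [← b4 _ (a1.symm ▸ (bf_comm _ _).trans h.o41)] at a1
  rw [← b4 _ (a2.symm ▸ (bf_comm _ _).trans h.o42)] at a2
  rw [← b4 _ (a3.symm ▸ (bf_comm _ _).trans h.o43)] at a3
  refine m1 (m2 (m3 (m4 ?_)))
  rw [h.eq_one a1 a2 a3 a4]
  exact H.one_mem

/-- removing a transposition -/
theorem step2 {H : Subgroup W} {v : W} {y₁ y₂ : Fin 4 → ℤ} (r1 : Rt cs y₁) (r2 : Rt cs y₂) (h0 : bf y₁ y₂ = 0)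
    (hH : ∃ s ∈ H, Swp cs s y₁ y₂) (h1 : PM (ac cs v y₁) y₁ ∨ PM (ac cs v y₁) y₂)
    (h2 : PM (ac cs v y₂) y₁ ∨ PM (ac cs v y₂) y₂) : ∃ v', (v' ∈ H → v ∈ H) ∧ PM (ac cs v' y₁) y₁ ∧
      PM (ac cs v' y₂) y₂ ∧ ∀ z, bf (ac cs v z) y₁ = 0 → bf (ac cs v z) y₂ = 0 → ac cs v' z = ac cs v z := by
  have h3 : bf (ac cs v y₁) (ac cs v y₂) = 0 := (bf_ac v _ _).trans h0
  have key : ∀ {y}, Rt cs y → PM (ac cs v y₁) y → PM (ac cs v y₂) y → False := fun hy a b =>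
    bf_ne hy (b.orth.1 ((bf_comm _ _).trans (a.orth.1 h3)))
  rcases h1 with h1 | h1
  · exact ⟨v, id, h1, h2.resolve_left (key r1 h1), fun _ _ _ => rfl⟩
  · obtain ⟨s, hs, hr⟩ := hH
    have h4 := h2.resolve_right (key r2 h1)
    refine ⟨s * v, fun h => (H.mul_mem_cancel_left hs).1 h, ?_, ?_, fun z z1 z2 => ?_⟩
    · have := h1.map (ac cs s)
      rwa [hr.e2, ← ac_mul] at this
    · have := h4.map (ac cs s)
      rwa [hr.e1, ← ac_mul] at this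
    · rw [ac_mul, hr.fx _ z1 z2]

/-! ### the subsystem -/

/-- the roots orthogonal to the roots in `Λ` -/
def Th (cs : CoxeterSystem CoxeterMatrix.F₄ W) (Λ : AddSubgroup (Fin 4 → ℤ)) : Set (Fin 4 → ℤ) :=
  {c | Rt cs c ∧ ∀ a, Rt cs a → a ∈ Λ → bf c a = 0}

/-- saturated at `2` and `3` -/
def Sat (Λ : AddSubgroup (Fin 4 → ℤ)) : Prop := ∀ n : ℤ, n ∣ 24 → ∀ x, n • x ∈ Λ → x ∈ Λ

/-- the conclusion -/
structure Out (cs : CoxeterSystem CoxeterMatrix.F₄ W) (Λ : AddSubgroup (Fin 4 → ℤ)) (w : W) : Prop where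
  sw : ∀ a, Rt cs a → (a ∈ Λ ↔ ac cs w a ∈ Th cs Λ)
  sw' : ∀ a, Rt cs a → (a ∈ Th cs Λ ↔ ac cs w a ∈ Λ)
  stab : ∀ H : Subgroup W, (∀ a, Rt cs a → a ∈ Λ ∨ a ∈ Th cs Λ → ∃ s ∈ H, IsRf cs s a) → ∀ v,
    (∀ a, Rt cs a → a ∈ Λ → ac cs v a ∈ Λ) → (∀ a ∈ Th cs Λ, ac cs v a ∈ Th cs Λ) → v ∈ H

variable {Λ : AddSubgroup (Fin 4 → ℤ)}

/-- a frame adapted to `Λ` -/
structure Adp (cs : CoxeterSystem CoxeterMatrix.F₄ W) (Λ : AddSubgroup (Fin 4 → ℤ)) (x₁ x₂ x₃ x₄ : Fin 4 → ℤ) : Prop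
    extends Frm cs x₁ x₂ x₃ x₄ where
  m1 : x₁ ∈ Λ
  m2 : x₂ ∈ Λ
  orth : ∀ a, Rt cs a → a ∈ Λ → bf a x₃ = 0 ∧ bf a x₄ = 0

theorem Adp.mem_iff (h : Adp cs Λ x₁ x₂ x₃ x₄) (hs : Sat Λ) {a : Fin 4 → ℤ} (ha : Rt cs a) :
    a ∈ Λ ↔ bf a x₃ = 0 ∧ bf a x₄ = 0 := by
  refine ⟨h.orth a ha, fun h1 => ?_⟩
  obtain ⟨c₁, c₂, e⟩ := h.toFrm.span h1.1 h1.2
  exact hs _ h.dvd a (e ▸ add_mem (Λ.zsmul_mem h.m1 _) (Λ.zsmul_mem h.m2 _))

theorem Adp.th_iff (h : Adp cs Λ x₁ x₂ x₃ x₄) {c : Fin 4 → ℤ} (hc : Rt cs c) :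
    c ∈ Th cs Λ ↔ bf c x₁ = 0 ∧ bf c x₂ = 0 := by
  refine ⟨fun h1 => ⟨h1.2 _ h.r1 h.m1, h1.2 _ h.r2 h.m2⟩, fun h1 => ⟨hc, fun a ha hm => ?_⟩⟩
  obtain ⟨c₁, c₂, e⟩ := h.toFrm.span (h.orth a ha hm).1 (h.orth a ha hm).2
  have e1 := congrArg (bf · c) e
  simp only [bf_add, bf_smul, bf_comm x₁ c, bf_comm x₂ c, h1.1, h1.2, mul_zero, add_zero] at e1
  rw [bf_comm]
  exact (mul_eq_zero.1 e1).resolve_left h.toFrm.dv_ne

theorem Adp.sw (h : Adp cs Λ x₁ x₂ x₃ x₄) (hs : Sat Λ) {s t : W} (h1 : Swp cs s x₁ x₃) (h2 : Swp cs t x₂ x₄) :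
    (∀ a, Rt cs a → (a ∈ Λ ↔ ac cs (s * t) a ∈ Th cs Λ)) ∧ ∀ a, Rt cs a → (a ∈ Th cs Λ ↔ ac cs (s * t) a ∈ Λ) := by
  have e1 : ac cs (s * t) x₁ = x₃ := by rw [ac_mul, h2.fx _ h.o12 ((bf_comm _ _).trans h.o41), h1.e1]
  have e3 : ac cs (s * t) x₃ = x₁ := by rw [ac_mul, h2.fx _ h.o32 ((bf_comm _ _).trans h.o43), h1.e2]
  have e2 : ac cs (s * t) x₂ = x₄ := by rw [ac_mul, h2.e1, h1.fx _ h.o41 h.o43]
  have e4 : ac cs (s * t) x₄ = x₂ := by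
    rw [ac_mul, h2.e2, h1.fx _ ((bf_comm _ _).trans h.o12) ((bf_comm _ _).trans h.o32)]
  constructor
  · intro a ha
    rw [h.mem_iff hs ha, h.th_iff (ha.act _), ← bf_ac (cs := cs) (s * t) a x₃, ← bf_ac (cs := cs) (s * t) a x₄, e3, e4]
  · intro a ha
    rw [h.mem_iff hs (ha.act _), h.th_iff ha, ← bf_ac (cs := cs) (s * t) a x₁, ← bf_ac (cs := cs) (s * t) a x₂, e1, e2]

theorem Adp.th3 (h : Adp cs Λ x₁ x₂ x₃ x₄) : x₃ ∈ Th cs Λ := (h.th_iff h.r3).2 ⟨h.o31, h.o32⟩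

theorem Adp.th4 (h : Adp cs Λ x₁ x₂ x₃ x₄) : x₄ ∈ Th cs Λ := (h.th_iff h.r4).2 ⟨h.o41, h.o42⟩

/-- type `A₁ Ã₁` -/
theorem out_A (hs : Sat Λ) {a b : Fin 4 → ℤ} (ha : Lg a) (hb : Sh b) (ma : a ∈ Λ) (mb : b ∈ Λ) (h0 : bf a b = 0)
    (hL : ∀ x, Lg x → x ∈ Λ → PM x a) (hS : ∀ x, Sh x → x ∈ Λ → PM x b) : ∃ w, Out cs Λ w := by
  obtain ⟨s', l1, o1, o2, t', l2, o3, o4, o5, o6, u1, u2⟩ := tab_3 _ ha _ hb h0
  have l1' : Lg (tv s') := l1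
  have l2' : Sh (tv t') := l2
  have A : Adp cs Λ a b (tv s') (tv t') :=
    { r1 := ha.rt cs, r2 := hb.rt cs, r3 := l1'.rt cs, r4 := l2'.rt cs, o12 := h0, o31 := o1, o32 := o2, o41 := o3,
      o42 := o4, o43 := o5, dvd := o6, m1 := ma, m2 := mb
      orth := fun x hx mx => by
        rcases (rt_iff cs).1 hx with h | h
        · exact ⟨(hL x h mx).orth.2 ((bf_comm _ _).trans o1), (hL x h mx).orth.2 ((bf_comm _ _).trans o3)⟩
        · exact ⟨(hS x h mx).orth.2 ((bf_comm _ _).trans o2), (hS x h mx).orth.2 ((bf_comm _ _).trans o4)⟩ }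
  obtain ⟨s, h1⟩ := exists_swpL (cs := cs) ha l1' ((bf_comm _ _).trans o1)
  obtain ⟨t, h2⟩ := exists_swpS (cs := cs) hb l2' ((bf_comm _ _).trans o4)
  refine ⟨s * t, (A.sw hs h1 h2).1, (A.sw hs h1 h2).2, fun H hH v v1 v2 => ?_⟩
  have t3 := (A.th_iff (A.r3.act v)).1 (v2 _ A.th3)
  have t4 := (A.th_iff (A.r4.act v)).1 (v2 _ A.th4)
  exact A.toFrm.mem (hH _ A.r1 (Or.inl ma)) (hH _ A.r2 (Or.inl mb)) (hH _ A.r3 (Or.inr A.th3))
    (hH _ A.r4 (Or.inr A.th4)) (hL _ (ha.ac v) (v1 _ A.r1 ma)) (hS _ (hb.ac v) (v1 _ A.r2 mb))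
    (pm_of (u1 _ (l1'.ac v) t3.1 t3.2)) (pm_of (u2 _ (l2'.ac v) t4.1 t4.2))

/-- type `B₂` -/
theorem out_B (hs : Sat Λ) {a b : Fin 4 → ℤ} (ha : Lg a) (hb : Lg b) (ma : a ∈ Λ) (mb : b ∈ Λ) (h0 : bf a b = 0)
    (hL : ∀ x, Lg x → x ∈ Λ → PM x a ∨ PM x b)
    (hS : ∀ x, Sh x → x ∈ Λ → ∃ c₁ c₂ : ℤ, (2 : ℤ) • x = c₁ • a + c₂ • b) : ∃ w, Out cs Λ w := by
  obtain ⟨s', l1, o1, o2, t', l2, o3, o4, o5, o6, u1⟩ := tab_4 _ ha _ hb h0
  have l1' : Lg (tv s') := l1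
  have l2' : Lg (tv t') := l2
  have key : ∀ y, bf y a = 0 → bf y b = 0 → ∀ x, Rt cs x → x ∈ Λ → bf x y = 0 := by
    intro y y1 y2 x hx mx
    rcases (rt_iff cs).1 hx with h | h
    · rcases hL x h mx with h1 | h1
      · exact h1.orth.2 ((bf_comm _ _).trans y1)
      · exact h1.orth.2 ((bf_comm _ _).trans y2)
    · obtain ⟨c₁, c₂, e⟩ := hS x h mx
      have e1 := congrArg (bf · y) e
      simp only [bf_add, bf_smul, bf_comm a y, bf_comm b y, y1, y2, mul_zero, add_zero] at e1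
      omega
  have A : Adp cs Λ a b (tv s') (tv t') :=
    { r1 := ha.rt cs, r2 := hb.rt cs, r3 := l1'.rt cs, r4 := l2'.rt cs, o12 := h0, o31 := o1, o32 := o2, o41 := o3,
      o42 := o4, o43 := o5, dvd := o6, m1 := ma, m2 := mb
      orth := fun x hx mx => ⟨key (tv s') o1 o2 x hx mx, key (tv t') o3 o4 x hx mx⟩ }
  obtain ⟨s, h1⟩ := exists_swpL (cs := cs) ha l1' ((bf_comm _ _).trans o1)
  obtain ⟨t, h2⟩ := exists_swpL (cs := cs) hb l2' ((bf_comm _ _).trans o4)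
  refine ⟨s * t, (A.sw hs h1 h2).1, (A.sw hs h1 h2).2, fun H hH v v1 v2 => ?_⟩
  have t3 := (A.th_iff (A.r3.act v)).1 (v2 _ A.th3)
  have t4 := (A.th_iff (A.r4.act v)).1 (v2 _ A.th4)
  have o34 : bf (tv s') (tv t') = 0 := (bf_comm _ _).trans A.o43
  have s1 : ∃ s ∈ H, Swp cs s a b := by
    obtain ⟨k, hk, e⟩ := exists_half ha hb h0
    obtain ⟨r, hr, hr'⟩ := hH k (hk.rt cs) (Or.inl (hs 2 (by norm_num) k (e ▸ sub_mem ma mb)))
    exact ⟨r, hr, swp_of hr' (hk.rt cs) two_ne_zero e h0 (by rw [ha.bf, hb.bf])⟩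
  have s2 : ∃ s ∈ H, Swp cs s (tv s') (tv t') := by
    obtain ⟨k, hk, e⟩ := exists_half l1' l2' o34
    have e1 := congrArg (bf · a) e
    have e2 := congrArg (bf · b) e
    simp only [bf_sub, bf_smul, A.o31, A.o32, A.o41, A.o42] at e1 e2
    obtain ⟨r, hr, hr'⟩ := hH k (hk.rt cs) (Or.inr ((A.th_iff (hk.rt cs)).2 ⟨by omega, by omega⟩))
    exact ⟨r, hr, swp_of hr' (hk.rt cs) two_ne_zero e o34 (by rw [l1'.bf, l2'.bf])⟩
  have p3 := (u1 _ (l1'.ac (cs := cs) v) t3.1 t3.2).imp (pm_of (b := tv s')) (pm_of (b := tv t'))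
  have p4 := (u1 _ (l2'.ac (cs := cs) v) t4.1 t4.2).imp (pm_of (b := tv s')) (pm_of (b := tv t'))
  obtain ⟨v₁, m1, a1, a2, b1⟩ := step2 A.r1 A.r2 h0 s1 (hL _ (ha.ac v) (v1 _ A.r1 ma)) (hL _ (hb.ac v) (v1 _ A.r2 mb))
  rw [← b1 _ t3.1 t3.2] at p3
  rw [← b1 _ t4.1 t4.2] at p4
  obtain ⟨v₂, m2, a3, a4, b2⟩ := step2 A.r3 A.r4 o34 s2 p3 p4
  rw [← b2 _ (a1.orth.2 ((bf_comm _ _).trans A.o31)) (a1.orth.2 ((bf_comm _ _).trans A.o41))] at a1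
  rw [← b2 _ (a2.orth.2 ((bf_comm _ _).trans A.o32)) (a2.orth.2 ((bf_comm _ _).trans A.o42))] at a2
  exact m1 (m2 (A.toFrm.mem (hH _ A.r1 (Or.inl ma)) (hH _ A.r2 (Or.inl mb)) (hH _ A.r3 (Or.inr A.th3))
    (hH _ A.r4 (Or.inr A.th4)) a1 a2 a3 a4))

/-- a map on the roots that interchanges the lengths -/
structure Dual (cs : CoxeterSystem CoxeterMatrix.F₄ W) (g : (Fin 4 → ℤ) → (Fin 4 → ℤ)) : Prop where
  rt : ∀ a, Rt cs a → Rt cs (g a)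
  len : ∀ a, Rt cs a → bf (g a) (g a) + bf a a = 6
  orth : ∀ a b, Rt cs a → Rt cs b → (bf (g a) (g b) = 0 ↔ bf a b = 0)
  pm : ∀ a b, Rt cs a → Rt cs b → PM (g a) (g b) → PM a b

variable {g : (Fin 4 → ℤ) → (Fin 4 → ℤ)}

theorem Dual.lg (h : Dual cs g) {a : Fin 4 → ℤ} (ha : Lg a) : Sh (g a) :=
  sh_of (h.rt a (ha.rt cs)) (by have := h.len a (ha.rt cs); have := ha.bf; omega)

theorem Dual.sh (h : Dual cs g) {a : Fin 4 → ℤ} (ha : Sh a) : Lg (g a) :=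
  lg_of (h.rt a (ha.rt cs)) (by have := h.len a (ha.rt cs); have := ha.bf; omega)

theorem Lg.neg {a : Fin 4 → ℤ} (cs : CoxeterSystem CoxeterMatrix.F₄ W) (h : Lg a) : Lg (-a) :=
  lg_of (h.rt cs).neg (by rw [bf_neg, bf_comm, bf_neg, h.bf]; norm_num)

theorem eq_top_of (hs : Sat Λ) {a b c e : Fin 4 → ℤ} (ma : a ∈ Λ) (mb : b ∈ Λ) (mc : c ∈ Λ) (me : e ∈ Λ)
    (h : dv a b c e ∣ 24) : Λ = ⊤ := by
  rw [eq_top_iff]
  intro y _
  refine hs _ h y ?_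
  rw [cramer]
  exact add_mem (add_mem (add_mem (Λ.zsmul_mem ma _) (Λ.zsmul_mem mb _)) (Λ.zsmul_mem mc _)) (Λ.zsmul_mem me _)

/-- **The self-dual Levi subsystems.** -/
theorem comb (hs : Sat Λ) (hΛ : Λ ≠ ⊤) (hg : Dual cs g) (hm : ∀ a, Rt cs a → a ∈ Λ → g a ∈ Λ) {a₀ : Fin 4 → ℤ}
    (r0 : Rt cs a₀) (m0 : a₀ ∈ Λ) : ∃ w, Out cs Λ w := by
  -- no `A₂`
  have n0 : ∀ a b c e, Lg a → Lg b → Sh c → Sh e → a ∈ Λ → b ∈ Λ → c ∈ Λ → e ∈ Λ → bf a b ≠ 0 → ¬ PM a b →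
      bf c e ≠ 0 → ¬ PM c e → False := fun a b c e la lb lc le ma mb mc me h1 h2 h3 h4 =>
    hΛ (eq_top_of hs ma mb mc me (tab_5 _ ((tab_5L _ la _ lb h1).resolve_left fun h => h2 (pm_of h)) _
      ((tab_5S _ lc _ le h3).resolve_left fun h => h4 (pm_of h))))
  have nL : ∀ a b, Lg a → Lg b → a ∈ Λ → b ∈ Λ → ¬ PM a b → bf a b = 0 := fun a b la lb ma mb h2 => by
    by_contra h1
    exact n0 a b _ _ la lb (hg.lg la) (hg.lg lb) ma mb (hm _ (la.rt cs) ma) (hm _ (lb.rt cs) mb) h1 h2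
      (fun h => h1 ((hg.orth _ _ (la.rt cs) (lb.rt cs)).1 h)) fun h => h2 (hg.pm _ _ (la.rt cs) (lb.rt cs) h)
  have nS : ∀ a b, Sh a → Sh b → a ∈ Λ → b ∈ Λ → ¬ PM a b → bf a b = 0 := fun a b la lb ma mb h2 => by
    by_contra h1
    exact n0 _ _ a b (hg.sh la) (hg.sh lb) la lb (hm _ (la.rt cs) ma) (hm _ (lb.rt cs) mb) ma mb
      (fun h => h1 ((hg.orth _ _ (la.rt cs) (lb.rt cs)).1 h)) (fun h => h2 (hg.pm _ _ (la.rt cs) (lb.rt cs) h)) h1 h2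
  obtain ⟨a, la, ma⟩ : ∃ a, Lg a ∧ a ∈ Λ := by
    rcases (rt_iff cs).1 r0 with h | h
    · exact ⟨a₀, h, m0⟩
    · exact ⟨_, hg.sh h, hm _ r0 m0⟩
  by_cases hL : ∀ x, Lg x → x ∈ Λ → PM x a
  · have lb := hg.lg la
    have mb := hm _ (la.rt cs) ma
    refine out_A hs la lb ma mb ?_ hL fun x lx mx => hg.pm _ _ (lx.rt cs) (lb.rt cs)
      ((hL _ (hg.sh lx) (hm _ (lx.rt cs) mx)).trans (hL _ (hg.sh lb) (hm _ (lb.rt cs) mb)).symm)
    obtain ⟨s, hs'⟩ := exists_rf (lb.rt cs)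
    have h1 := hL _ (la.ac (cs := cs) s) (by rw [hs']; exact sub_mem ma (Λ.zsmul_mem mb _))
    have h2 := cpr_bf (lb.rt cs) a
    rw [hs'] at h1
    rw [lb.bf] at h2
    rcases h1 with h1 | h1
    · have h3 := congrArg (bf · (g a)) h1
      simp only [bf_sub, bf_smul, lb.bf] at h3
      omega
    · have h3 := congrArg (bf · a) h1
      simp only [bf_sub, bf_smul, bf_neg, la.bf, bf_comm (g a) a] at h3
      have h4 : cpr cs isType.isCartan a (g a) = bf a (g a) := by omega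
      rw [h4] at h3
      have h5 : bf a (g a) * bf a (g a) = 8 := by omega
      have h6 : bf a (g a) ≤ 2 := by nlinarith
      have h7 : -2 ≤ bf a (g a) := by nlinarith
      nlinarith
  · push Not at hL
    obtain ⟨b, lb, mb, hab⟩ := hL
    have h0 : bf a b = 0 := (bf_comm _ _).trans (nL _ _ lb la mb ma hab)
    obtain ⟨k, lk, ek⟩ := exists_half la lb h0
    have mk : k ∈ Λ := hs 2 (by norm_num) k (ek ▸ sub_mem ma mb)
    have hka : bf k a = 2 := by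
      have e := congrArg (bf · a) ek
      simp only [bf_sub, bf_smul, la.bf, bf_comm b a, h0] at e
      omega
    have hkb : bf k b = -2 := by
      have e := congrArg (bf · b) ek
      simp only [bf_sub, bf_smul, lb.bf, h0] at e
      omega
    have hL : ∀ x, Lg x → x ∈ Λ → PM x a ∨ PM x b := by
      intro x lx mx
      by_contra h
      rw [not_or] at h
      have h1 := nL _ _ lx la mx ma h.1
      have h2 := nL _ _ lx lb mx mb h.2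
      obtain ⟨j, lj, ej⟩ := exists_half la lx ((bf_comm _ _).trans h1)
      have mj : j ∈ Λ := hs 2 (by norm_num) j (ej ▸ sub_mem ma mx)
      have e1 := congrArg (bf · k) ej
      have e2 := congrArg (bf · x) ek
      simp only [bf_sub, bf_smul, bf_comm a k, hka, bf_comm a x, bf_comm b x, bf_comm x k, h1, h2] at e1 e2
      have e3 : bf j k = 1 := by omega
      by_cases h3 : PM j k
      · rcases h3 with h3 | h3
        · rw [h3, lk.bf] at e3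
          omega
        · rw [h3, bf_neg, lk.bf] at e3
          omega
      · have := nS _ _ lj lk mj mk h3
        omega
    refine out_B hs la lb ma mb h0 hL fun x lx mx => ?_
    obtain ⟨j, lj, ej⟩ := exists_half la (lb.neg cs) (by rw [bf_comm, bf_neg, bf_comm, h0, neg_zero])
    have mj : j ∈ Λ := hs 2 (by norm_num) j (ej ▸ sub_mem ma (neg_mem mb))
    by_cases h1 : PM x k
    · rcases h1 with rfl | rfl
      · exact ⟨1, -1, by rw [ek]; module⟩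
      · exact ⟨-1, 1, by rw [smul_neg, ek]; module⟩
    by_cases h2 : PM x j
    · rcases h2 with rfl | rfl
      · exact ⟨1, 1, by rw [ej]; module⟩
      · exact ⟨-1, -1, by rw [smul_neg, ej]; module⟩
    exfalso
    have h3 := nS _ _ lx lk mx mk h1
    have h4 := nS _ _ lx lj mx mj h2
    have lc : Lg (k - x) := tab_2 _ lk _ lx ((bf_comm _ _).trans h3)
    have e1 := congrArg (bf · k) ej
    have e2 := congrArg (bf · a) ej
    have e3 := congrArg (bf · b) ej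
    simp only [bf_sub, bf_smul, bf_neg, bf_comm a k, bf_comm b k, hka, hkb, la.bf, lb.bf, bf_comm b a, h0] at e1 e2 e3
    have e4 : bf (k - x) j = 0 := by rw [bf_sub, h4, bf_comm k j]; omega
    rcases hL _ lc (sub_mem mk mx) with h5 | h5
    · have := h5.orth.1 e4
      rw [bf_comm] at this
      omega
    · have := h5.orth.1 e4
      rw [bf_comm] at this
      omega

end Cfsg.Agent.Cam.F42
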