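import Cfsg.Agent.Cam.F42.Swap
import Cfsg.Agent.Cam.Spor.SzRee
import Cfsg.Agent.Cam.Spor.SP
import Cfsg.Agent.H270.EPU.Rank

/-!
# S3689, S3690: the box of the large Ree groups (helper90)

For an element `x` of prime order `r ≥ 5` of `²F₄(q)` some conjugate of the perfect core of `C(x)` centralizes it
(`swap`); this excludes the local configuration.  The `r`-rank is at most two; this gives `Rank7`.
-/

set_option autoImplicit false

namespace Cfsg.Agent.Cam.F42

open Cfsg Cfsg.Lie Subgroup Cfsg.Agent.TwoFusion.PerfCore Cfsg.Agent.Cam.Spor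

variable {L U : Type} [Group L] [Group U]

/-- a perfect subgroup of `C(R)` lies in `T` -/
theorem perfect_le_range [Finite U] (big : Big) (hs : IsSimpleGroup U) {τ : U →* L} {R X : Subgroup L} (p : Pair τ R)
    (hX : ⁅X, X⁆ = X) (hC : X ≤ centralizer (R : Set L)) : X ≤ τ.range := by
  obtain ⟨a, -, ha⟩ := p.exists_act
  have hsol := big.sch U
  let f : X →* Cfsg.Out U := (QuotientGroup.mk' (Inn U)).comp (a.comp (inclusion hC))
  have h1 : (⊤ : Subgroup X) ≤ f.ker := le_ker_of_perfect (top_perfect hX) f inferInstance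
  intro c hc
  have h2 : f ⟨c, hc⟩ = 1 := h1 (mem_top _)
  obtain ⟨v, hv⟩ : a ⟨c, hC hc⟩ ∈ Inn U := (QuotientGroup.eq_one_iff _).1 h2
  refine ⟨v, ?_⟩
  have h3 : (τ v)⁻¹ * c = 1 := p.cfaith _ (mul_mem (inv_mem (p.tau_mem_cent v)) (hC hc)) fun u => by
    have h4 := ha ⟨c, hC hc⟩ u
    rw [← hv, MulAut.conj_apply, map_mul, map_mul, map_inv] at h4
    have h5 : τ v * τ u * (τ v)⁻¹ = c * τ u * c⁻¹ := h4
    calc (τ v)⁻¹ * c * τ u = (τ v)⁻¹ * (c * τ u * c⁻¹) * c := by group
      _ = τ u * ((τ v)⁻¹ * c) := by rw [← h5]; group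
  exact inv_mul_eq_one.1 h3

theorem noCore_of_swap [Finite L] (big : Big) (h : ∀ (x : L) (r : ℕ), r.Prime → 5 ≤ r → x ^ r = 1 → x ≠ 1 →
    ∃ n, ∀ P : Subgroup L, ⁅P, P⁆ = P → P ≤ centralizer {x} → ∀ a ∈ P, ∀ b ∈ P,
      n * a * n⁻¹ * b = b * (n * a * n⁻¹)) : NoCore L := by
  intro U _ _ τ α β R R' c
  obtain ⟨r, hr, h5, hd⟩ := exists_prime_five c.simple c.noncomm
  obtain ⟨u, hu, hu1⟩ := Core.exists_orderOf hr hd
  obtain ⟨n, hn⟩ := h (τ u) r hr h5 (by rw [← map_pow, ← hu, pow_orderOf_eq_one, map_one])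
    fun h1 => hu1 (c.pair.inj (h1.trans (map_one τ).symm))
  have hP := hn _ (perf_perfect (centralizer ({τ u} : Set L))) (perf_le _)
  let X := (perf (centralizer ({τ u} : Set L))).map (MulAut.conj n).toMonoidHom
  have hX : ⁅X, X⁆ = X := map_perfect (perf_perfect _) _
  have h1 : X ≤ centralizer (perf (centralizer ({τ u} : Set L)) : Set L) := by
    rintro _ ⟨a, ha, rfl⟩
    exact mem_centralizer_iff.2 fun b hb => (hP a ha b hb).symm
  have h2 : X ≤ τ.range :=
    perfect_le_range big c.simple c.pair hX (h1.trans (centralizer_le (c.pair.le_perf_cent u)))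
  have h3 : X ≤ centralizer ({τ u} : Set L) := fun y hy => by
    obtain ⟨v, rfl⟩ := h2 hy
    rw [mem_centralizer_singleton_iff, ← map_mul, ← map_mul, c.comm_of_cent_perf (h1 hy)]
  have h4 : X = ⊥ := eq_bot_of_perfect_comm hX fun a ha b hb =>
    (mem_centralizer_iff.1 (h1 ha) b (le_perf h3 hX hb)).symm
  exact c.pair.perf_ne_bot c.noncomm u ((map_eq_bot_iff_of_injective _ (MulAut.conj n).injective).1 h4)

theorem rank7_of_rank [Finite L] (h : ∀ r : ℕ, r.Prime → 5 ≤ r → ∀ A : Subgroup L, IsMulCommutative A →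
    (∀ a ∈ A, a ^ r = 1) → Nat.card A ≤ r ^ 2) : Rank7 L := by
  intro U _ _ hs hn f hf
  obtain ⟨r, hr, h5, hd⟩ := exists_prime_five hs hn
  obtain ⟨u, hu, -⟩ := Core.exists_orderOf hr hd
  let g : (Fin 8 → zpowers u) →* L := f.comp (MonoidHom.compLeft (zpowers u).subtype (Fin 8))
  have hg : Function.Injective g := hf.comp fun a b hab => funext fun i => Subtype.ext (congrFun hab i)
  have hc : Nat.card g.range = r ^ 8 := by
    rw [← Nat.card_congr (MonoidHom.ofInjective hg).toEquiv, Nat.card_fun, Nat.card_zpowers, hu]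
    simp
  have h1 := h r hr h5 g.range ⟨⟨by
    rintro ⟨_, a, rfl⟩ ⟨_, b, rfl⟩
    refine Subtype.ext ?_
    change g a * g b = g b * g a
    rw [← map_mul, ← map_mul]
    congr 1
    funext i
    exact (IsMulCommutative.is_comm (M := zpowers u)).comm (a i) (b i)⟩⟩ (by
    rintro _ ⟨a, rfl⟩
    rw [← map_pow, ← map_one g]
    congr 1
    funext i
    have h2 := pow_card_eq_one' (x := a i)
    rw [Nat.card_zpowers, hu] at h2
    exact h2)
  rw [hc] at h1
  exact absurd (Nat.pow_lt_pow_right hr.one_lt (by norm_num : 2 < 8)) (not_lt.2 h1)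

theorem rank7_of_equiv {L' : Type} [Group L'] (h : Rank7 L') (e : L ≃* L') : Rank7 L :=
  fun U _ _ _ hn f hf => h U hn (e.toMonoidHom.comp f) (e.injective.comp hf)

/-- **The box of the groups `²F₄(q)`.** -/
theorem box2F4 : Box2F4 := fun big red => row_of big red fun L _ _ _ h => by
  obtain ⟨K, _, _, m, -, hK, ⟨e⟩⟩ := h
  have : Finite ↥(twistedF4 K (2 ^ m)) := Finite.of_equiv _ e.toEquiv
  exact ⟨rank7_of_equiv (rank7_of_rank fun r hr h5 => H270.EPU.prankLE_five hK hr (by omega) (by omega)) e,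
    NoCore.of_equiv (noCore_of_swap big fun _ _ hr h5 hx h1 => swap hK hr h5 hx h1) e⟩

end Cfsg.Agent.Cam.F42
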