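import Cfsg.Agent.Cam.F42.Comb
import Cfsg.Agent.SB.Exc.Max.Frame
import Cfsg.Agent.DL.Tw.Gr
import Cfsg.Agent.BpExc.RowsUntw

/-!
# S3689, S3690, the row `²F₄(q)`: the swapping element (helper90)

`swap` : for `x ∈ ²F₄(q)` of prime order `r ≥ 5` there is `n` such that `n P n⁻¹` centralizes `P` for every perfect subgroup
`P` of `C(x)`.
-/

set_option autoImplicit false
set_option linter.unusedSectionVars false

namespace Cfsg.Agent.Cam.F42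

open CoxeterSystem Cfsg.Lie Cfsg.Agent.ChevalleyStructure Cfsg.Agent.ChevalleyStructure.CoxeterGeom
  Cfsg.Agent.ChevalleyStructure.CoxeterGeomTypes Cfsg.Agent.Tits.Roots Cfsg.Agent.Nodes.Coroot
  Cfsg.Agent.Nodes.Reps Cfsg.Agent.Nodes.BNOf Cfsg.Agent.Nodes.RGDChev Cfsg.Agent.Nodes.KindF
  Cfsg.Agent.Nodes.KindChev Cfsg.Agent.UGT.U2.FOne.FFour Cfsg.Agent.DL
open Cfsg.Agent.KFacts.RgdChevCoord Cfsg.Agent.BpExc Cfsg.Agent.BpExc.TorChev Cfsg.Agent.BpExc.TowChev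
open scoped commutatorElement

section Gen

variable {p : ℕ} [Fact p.Prime] {k : Type} [Field k] [CharP k p] {Y : Type} [Group Y] {N : Type} [Fintype N]
  [DecidableEq N] {ρ : Y →* GL N k} {F : MulAut Y} {G : Subgroup Y} [IsAlgClosed k] (D : Datum p ρ F G)

theorem cpr_g {a b : D.I → ℤ} (ha : D.Rt a) (hb : D.Rt b) :
    cpr D.cs D.h (D.g a) (D.g b) * (p : ℤ) ^ D.ex b = (p : ℤ) ^ D.ex a * cpr D.cs D.h a b := by
  have h1 := D.ψ_act (D.rf b) (D.g a)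
  rw [D.Fw_rf hb, D.act_rf (D.g_root b hb), map_sub, map_zsmul, D.ψ_g ha, D.ψ_g hb, D.act_rf hb,
    cpr_smul D.cs D.h _ _ hb, sub_right_inj, smul_smul] at h1
  exact smul_left_injective ℤ hb.ne_zero h1

theorem cpr_g_eq_zero {a b : D.I → ℤ} (ha : D.Rt a) (hb : D.Rt b) :
    cpr D.cs D.h (D.g a) (D.g b) = 0 ↔ cpr D.cs D.h a b = 0 := by
  have h1 := cpr_g D ha hb
  constructor
  · intro h
    rw [h, zero_mul] at h1
    exact (mul_eq_zero.1 h1.symm).resolve_left (D.q_pos a).ne'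
  · intro h
    rw [h, mul_zero] at h1
    exact (mul_eq_zero.1 h1).resolve_right (D.q_pos b).ne'

/-- the elements of `W` with a representative in `M` -/
def repW (M : Subgroup Y) : Subgroup D.W where
  carrier := {w | ∃ m ∈ M, D.Rp w m}
  one_mem' := ⟨1, M.one_mem, rp_of_mem D.T.one_mem⟩
  mul_mem' := by
    rintro _ _ ⟨a, ha, ha'⟩ ⟨b, hb, hb'⟩
    exact ⟨_, M.mul_mem ha hb, ha'.mul hb'⟩
  inv_mem' := by
    rintro _ ⟨a, ha, ha'⟩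
    exact ⟨_, M.inv_mem ha, ha'.inv⟩

theorem S_comm {A B : Set (D.I → ℤ)} (h : ∀ a ∈ A, ∀ c ∈ B, ∀ u ∈ D.X a, ∀ v ∈ D.X c, u * v = v * u) {y z : Y}
    (hy : y ∈ D.S A) (hz : z ∈ D.S B) : y * z = z * y := by
  have h1 : D.S B ≤ Subgroup.centralizer (D.S A : Set Y) := RGD.Sup_le fun c hc => by
    rw [Subgroup.le_centralizer_iff]
    exact RGD.Sup_le fun a ha u hu => Subgroup.mem_centralizer_iff.2 fun v hv => (h a ha c hc u hu v hv).symm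
  exact Subgroup.mem_centralizer_iff.1 (h1 hz) y hy

/-- **An `F`-fixed element interchanging two commuting subsystem subgroups.** -/
theorem swap_of {A B : Set (D.I → ℤ)} (hA : ∀ a ∈ A, D.Rt a) (hB : ∀ a ∈ B, D.Rt a) (gA : ∀ a ∈ A, D.g a ∈ A)
    (gB : ∀ a ∈ B, D.g a ∈ B) (nA : ∀ a ∈ A, -a ∈ A) (nB : ∀ a ∈ B, -a ∈ B)
    (hc : ∀ a ∈ A, ∀ c ∈ B, ∀ u ∈ D.X a, ∀ v ∈ D.X c, u * v = v * u) {w : D.W}
    (h1 : ∀ a, D.Rt a → (a ∈ A ↔ D.act w a ∈ B)) (h2 : ∀ a, D.Rt a → (a ∈ B ↔ D.act w a ∈ A))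
    (hs : ∀ H : Subgroup D.W, (∀ a ∈ A ∪ B, D.rf a ∈ H) → ∀ v, (∀ a ∈ A, D.act v a ∈ A) → (∀ a ∈ B, D.act v a ∈ B) →
      v ∈ H) : ∃ n ∈ G, F n = n ∧ ∀ y ∈ D.S A, ∀ z ∈ D.S A, n * y * n⁻¹ * z = z * (n * y * n⁻¹) := by
  have hAB : ∀ a ∈ A ∪ B, D.Rt a := fun a ha => ha.elim (hA a) (hB a)
  obtain ⟨n₀, hn₀, -⟩ := D.exists_rp w
  have hv : D.Rp (w⁻¹ * D.Fw w) (n₀⁻¹ * F n₀) := hn₀.inv.mul (Datum.Rp.mapF hn₀)
  have key : ∀ {A B : Set (D.I → ℤ)}, (∀ a ∈ A, D.Rt a) → (∀ a ∈ A, D.g a ∈ A) → (∀ a ∈ B, D.g a ∈ B) →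
      (∀ a, D.Rt a → (a ∈ A ↔ D.act w a ∈ B)) → ∀ a ∈ A, D.act (w⁻¹ * D.Fw w) a ∈ A := by
    intro A B hA gA gB h1 a ha
    obtain ⟨b, hb, rfl⟩ := (D.g_bijOn hA gA).surjOn ha
    refine (h1 _ ((D.g_root b (hA b hb)).act _)).2 ?_
    have e : D.act w (D.act (w⁻¹ * D.Fw w) (D.g b)) = D.g (D.act w b) := by
      rw [D.g_act w (hA b hb)]
      exact (rep_mul_apply D.cs D.h _ _ _).symm.trans (by rw [mul_inv_cancel_left])
    exact e ▸ gB _ ((h1 b (hA b hb)).1 hb)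
  obtain ⟨m, hm, hm'⟩ := hs (repW D (D.T ⊔ D.S (A ∪ B))) (fun a ha => by
    obtain ⟨m, hm, hm'⟩ := D.exists_rp_rf (hAB a ha)
    exact ⟨m, sup_le_sup_left (sup_le (RGD.le_Sup ha) (RGD.le_Sup (ha.imp (nA a) (nB a)))) _ hm, hm'⟩) _
    (key hA gA gB h1) (key hB gB gA h2)
  have h3 : n₀⁻¹ * F n₀ ∈ D.T ⊔ D.S (A ∪ B) := by
    have h4 : D.Rp 1 (m⁻¹ * (n₀⁻¹ * F n₀)) := inv_mul_cancel (w⁻¹ * D.Fw w) ▸ hm'.inv.mul hv
    have h5 : m⁻¹ * (n₀⁻¹ * F n₀) ∈ D.T := (D.pr_eq_one_iff ⟨_, h4⟩).1 (Datum.Rp.pr_eq h4)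
    exact (Subgroup.mul_mem_cancel_left _ (inv_mem hm)).1 (Subgroup.mem_sup_left h5)
  obtain ⟨z, hz, e⟩ := D.lang_TS hAB (fun a ha => ha.imp (gA a) (gB a)) h3
  have hn : D.T ⊔ D.S (A ∪ B) ≤ Subgroup.normalizer (D.S A : Set Y) := by
    refine sup_le (D.T_le_normalizer hA) (RGD.Sup_le fun a ha => ?_)
    rcases ha with ha | ha
    · exact (RGD.le_Sup ha).trans Subgroup.le_normalizer
    · refine le_trans (fun u hu => Subgroup.mem_centralizer_iff.2 fun y hy => ?_) (Subgroup.centralizer_le_normalizer _)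
      exact S_comm D hc hy (RGD.le_Sup ha hu)
  refine ⟨n₀ * z⁻¹, mul_mem (Datum.Rp.mem_G hn₀) (inv_mem (sup_le D.T_le_G (D.S_le_G hAB) hz)), ?_, fun y hy u hu => ?_⟩
  · rw [map_mul, map_inv]
    calc F n₀ * (F z)⁻¹ = n₀ * (n₀⁻¹ * F n₀) * (F z)⁻¹ := by group
      _ = _ := by rw [e]; group
  · have h4 : z⁻¹ * y * z⁻¹⁻¹ ∈ D.S A := (Subgroup.mem_normalizer_iff.1 (hn (inv_mem hz)) y).1 hy
    have h5 := D.conj_mem_S hn₀ hA (fun a ha => (h1 a (hA a ha)).1 ha) h4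
    have h6 : n₀ * z⁻¹ * y * (n₀ * z⁻¹)⁻¹ = n₀ * (z⁻¹ * y * z⁻¹⁻¹) * n₀⁻¹ := by group
    rw [h6]
    exact (S_comm D hc hu h5).symm

theorem χ_pow (a : D.I → ℤ) {t : Y} (ht : t ∈ D.T) (n : ℕ) : D.χ a (t ^ n) = D.χ a t ^ n := by
  induction n with
  | zero => rw [pow_zero, pow_zero, D.χ_one]
  | succ n ih => rw [pow_succ, pow_succ, D.χ_mul a (pow_mem ht n) ht, ih]

theorem mem_Lam_of {t : Y} (ht : t ∈ D.T) {r : ℕ} (hr : t ^ r = 1) {n : ℤ} (hn : IsCoprime n r) {x : D.I → ℤ}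
    (hx : n • x ∈ D.Lam {t}) : x ∈ D.Lam {t} := by
  rintro _ rfl
  obtain ⟨a, b, e⟩ := hn
  have h1 := hx _ rfl
  have h2 := χ_pow D x ht r
  rw [D.χ_zsmul] at h1
  rw [hr, D.χ_one] at h2
  rw [← zpow_one (D.χ x _), ← e, zpow_add₀ (D.χ_ne_zero _ _), mul_comm a, mul_comm b, zpow_mul, zpow_mul, h1,
    zpow_natCast, ← h2, one_zpow, one_zpow, one_mul]

end Gen

/-- orthogonal root groups commute in characteristic two -/
theorem comm_orth {K : Type} [Field K] [CharP K 2] {W : Type} [Group W] (cs : CoxeterSystem CoxeterMatrix.F₄ W)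
    {a b : Fin 4 → ℤ} (ha : Rt cs a) (hb : Rt cs b) (h0 : bf a b = 0) {x v : ↥(chevF4.group K)}
    (hx : x ∈ XX chevF4 4 K a) (hv : v ∈ XX chevF4 4 K b) : x * v = v * x := by
  rcases (rt_iff cs).1 ha with la | la
  · exact (H899.RG.Short.comm_R cs ha hb (by rw [qf_eq, la.bf]) (by rw [qf_eq, h0]) hx hv).symm
  rcases (rt_iff cs).1 hb with lb | lb
  · exact H899.RG.Short.comm_R cs hb ha (by rw [qf_eq, lb.bf]) (by rw [qf_eq, bf_comm, h0]) hv hx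
  have hna := (qf_eq _ _).trans la.bf
  have hnb := (qf_eq _ _).trans lb.bf
  have hab := (qf_eq _ _).trans h0
  obtain ⟨r, hr, rfl⟩ := (isRoot_iff isType cs a).1 ha
  obtain ⟨s, hs, rfl⟩ := (isRoot_iff isType cs b).1 hb
  obtain ⟨t, rfl⟩ := (H899.RG.Short.mem_XX hr).1 hx
  obtain ⟨u, rfl⟩ := (H899.RG.Short.mem_XX hs).1 hv
  obtain ⟨h3, -, -, h6⟩ := H899.RG.Short.tab_Q r (H899.RG.Short.mem_shorts hr hna) s (H899.RG.Short.mem_shorts hs hnb) hab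
  have hsr : s ≠ r := by
    rintro rfl
    rw [la.bf] at h0
    omega
  have hneg : s ≠ chevF4.neg r := by
    rintro rfl
    rw [vec_neg isType hr, bf_comm, bf_neg, la.bf] at h0
    omega
  have hc : (H899.RG.Short.c1 r s : K) = 0 := by
    have h7 : (H899.RG.Short.c1 r s : K) * (H899.RG.Short.c1 r s : K) = 2 * 2 := by
      rw [← Int.cast_mul, h6]
      norm_num
    rw [CharTwo.two_eq_zero, mul_zero] at h7
    exact mul_self_eq_zero.1 h7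
  symm
  rw [← commutatorElement_eq_one_iff_mul_comm]
  apply Subtype.ext
  rw [H899.RG.Short.comm_ex hr hs hsr hneg]
  have h8 : chevF4.commWord K r s (-t) (-u) = [(H899.RG.Short.m1 r s, 0)] := by
    show (chevF4.commTerms r s).map _ = _
    rw [h3]
    simp only [List.map_cons, List.map_nil, hc, zero_mul]
  rw [h8, Elts.wordG_cons, Elts.wordG_nil, mul_one, Elts.xG_zero]
  rfl

section Alg

variable {k : Type} [Field k] [CharP k 2] [IsAlgClosed k] (hk : LocFin k) (m : ℕ)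

theorem dual_twist {n : ↥(chevF4.group k)} (hn : n ∈ (Tw.datF4 hk m).NN) :
    Dual CoxeterMatrix.F₄.toCoxeterSystem ((Tw.datF4 hk m).twist hn).g where
  rt := ((Tw.datF4 hk m).twist hn).g_root
  len a ha := by
    obtain ⟨r, hr, rfl⟩ := (isRoot_iff isType _ a).1 ha
    have h1 : ((Tw.datF4 hk m).twist hn).g (vec chevF4 4 r) = ac CoxeterMatrix.F₄.toCoxeterSystem ((Tw.datF4 hk m).pr n)
        (vec chevF4 4 (TwF4.Rel.bar (idx chevF4 4 (vec chevF4 4 r)))) := rfl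
    rw [idx_vec isType hr] at h1
    exact (congrArg (fun z => bf z z + _) h1).trans
      ((congrArg (· + _) (bf_ac _ _ _)).trans (tab_bar r (H899.RG.Short.lt48 hr)))
  orth a b ha hb := (cpr_eq_zero (((Tw.datF4 hk m).twist hn).g_root b hb) _).symm.trans
    ((cpr_g_eq_zero ((Tw.datF4 hk m).twist hn) ha hb).trans (cpr_eq_zero hb a))
  pm a b ha hb h := by
    rcases h with h | h
    · exact Or.inl (((Tw.datF4 hk m).twist hn).g_inj ha hb h)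
    · exact Or.inr (((Tw.datF4 hk m).twist hn).g_inj ha hb.neg (h.trans (((Tw.datF4 hk m).twist hn).g_neg hb).symm))

theorem χ_eq {a : Fin 4 → ℤ} (ha : Rt CoxeterMatrix.F₄.toCoxeterSystem a) {t : ↥(chevF4.group k)}
    (ht : t ∈ TT chevF4 k) : (Tw.datF4 hk m).χ a t = ch isType a t := by
  have h1 := (Tw.datF4 hk m).tor' ha ht 1
  obtain ⟨r, hr, rfl⟩ := (isRoot_iff isType _ a).1 ha
  have h2 := (act isType hr ht (K := k)).2 1
  have h3 := (Tw.datF4 hk m).x_inj _ ha (h1.symm.trans h2)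
  rwa [mul_one, mul_one] at h3

theorem lam_ne {t : ↥(chevF4.group k)} (ht : t ∈ TT chevF4 k) (h1 : t ≠ 1) : (Tw.datF4 hk m).Lam {t} ≠ ⊤ := by
  intro h
  obtain ⟨c, rfl⟩ := ((Tw.datF4 hk m).mem_T t).1 ht
  apply h1
  have h2 : c = 1 := funext fun i => by
    have h3 : (Tw.datF4 hk m).χ (sr i) ((Tw.datF4 hk m).τ c) = 1 := (h ▸ AddSubgroup.mem_top (sr i) :
      sr i ∈ (Tw.datF4 hk m).Lam {(Tw.datF4 hk m).τ c}) _ rfl
    rw [Datum.χ_τ] at h3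
    exact (Ex.chr_sr i c).symm.trans (Units.val_eq_one.1 h3)
  rw [h2, map_one]

theorem swap_tor {n t : ↥(chevF4.group k)} (hn : n ∈ (Tw.datF4 hk m).NN) (ht : t ∈ TT chevF4 k)
    (hF : (MulAut.conj n * Tw.steA k m) t = t) {r : ℕ} (hr : r.Prime) (h5 : 5 ≤ r) (htr : t ^ r = 1) (h1 : t ≠ 1) :
    ∃ y, (MulAut.conj n * Tw.steA k m) y = y ∧ ∀ a ∈ (Tw.datF4 hk m).S ((Tw.datF4 hk m).Sz {t}),
      ∀ b ∈ (Tw.datF4 hk m).S ((Tw.datF4 hk m).Sz {t}), y * a * y⁻¹ * b = b * (y * a * y⁻¹) := by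
  let D := (Tw.datF4 hk m).twist hn
  let cs := CoxeterMatrix.F₄.toCoxeterSystem
  have hT : ({t} : Set ↥(chevF4.group k)) ⊆ D.T := Set.singleton_subset_iff.2 ht
  have gA : ∀ a ∈ D.Sz {t}, D.g a ∈ D.Sz {t} := fun a ha => D.g_mem_Sz hT (by rintro _ rfl; exact hF) ha
  by_cases h0 : ∃ a, a ∈ D.Sz {t}
  swap
  · refine ⟨1, map_one _, fun a ha b _ => ?_⟩
    have h2 : (Tw.datF4 hk m).S ((Tw.datF4 hk m).Sz {t}) ≤ ⊥ := RGD.Sup_le fun c hc => (h0 ⟨c, hc⟩).elim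
    rw [Subgroup.mem_bot.1 (h2 ha)]
    group
  obtain ⟨a₀, ha₀⟩ := h0
  have hs : Sat (D.Lam {t}) := fun c hc x hx => by
    refine mem_Lam_of D ht htr (IsCoprime.of_isCoprime_of_dvd_left ?_ hc) hx
    refine Nat.isCoprime_iff_coprime.2 (Nat.Coprime.symm ((Nat.Prime.coprime_iff_not_dvd hr).2 fun h => ?_) :
      Nat.Coprime 24 r)
    rcases (Nat.Prime.dvd_mul hr).1 (show r ∣ 2 ^ 3 * 3 from h) with h2 | h2
    · have := Nat.le_of_dvd two_pos (hr.dvd_of_dvd_pow h2)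
      omega
    · have := Nat.le_of_dvd three_pos h2
      omega
  have hg := dual_twist hk m hn
  obtain ⟨w, hw⟩ := comb (cs := cs) hs (lam_ne hk m ht h1) hg (fun a ha hm => (gA a ⟨ha, hm⟩).2) ha₀.1 ha₀.2
  obtain ⟨y, -, h2, h3⟩ := swap_of D (A := D.Sz {t}) (B := Th cs (D.Lam {t})) D.Sz_root (fun _ h => h.1) gA
    (fun c hc => ⟨hg.rt c hc.1, fun a ha hm => by
      obtain ⟨b, hb, rfl⟩ := (D.g_bijOn D.Sz_root gA).surjOn ⟨ha, hm⟩
      exact (hg.orth c b hc.1 hb.1).2 (hc.2 b hb.1 hb.2)⟩)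
    (fun _ => D.Sz_neg) (fun c hc => ⟨hc.1.neg, fun a ha hm => (bf_neg c a).trans (neg_eq_zero.2 (hc.2 a ha hm))⟩)
    (fun a ha c hc u hu v hv => (comm_orth cs hc.1 ha.1 (hc.2 a ha.1 ha.2) hv hu).symm) (w := w)
    (fun a ha => (and_iff_right ha).trans (hw.sw a ha))
    (fun a ha => (hw.sw' a ha).trans (and_iff_right (ha.act w)).symm)
    (fun H hH v v1 v2 => hw.stab H (fun a ha hm => ⟨D.rf a, hH a (hm.imp_left fun h => ⟨ha, h⟩), D.act_rf ha⟩) v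
      (fun a ha hm => (v1 a ⟨ha, hm⟩).2) v2)
  exact ⟨y, h2, h3⟩

include hk in
theorem swap_alg {x : ↥(chevF4.group k)} (hF : Tw.steA k m x = x) {r : ℕ} (hr : r.Prime) (h5 : 5 ≤ r) (hx : x ^ r = 1)
    (h1 : x ≠ 1) : ∃ n, Tw.steA k m n = n ∧ ∀ (J : Subgroup ↥(chevF4.group k)) [Finite J], ⁅J, J⁆ = J →
      J ≤ Subgroup.centralizer {x} → ∀ a ∈ J, ∀ b ∈ J, n * a * n⁻¹ * b = b * (n * a * n⁻¹) := by
  obtain ⟨z, hz⟩ := TorAll.exists_toral isType 2 (Ex.lf_of_locFin hk) hr (by omega) hx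
  obtain ⟨y, -, hy, -, e⟩ := SB.Exc.Max.exists_conj_le_T (Tw.datF4 hk m) (Z := {x}) (by rintro _ rfl; exact hF)
    (Subgroup.mem_top z) (by rintro _ rfl; exact hz)
  have ht : y⁻¹ * x * y ∈ TT chevF4 k := by
    rw [e x rfl]
    exact hz
  have htr : (y⁻¹ * x * y) ^ r = 1 := by
    have h2 := conj_pow (a := y⁻¹) (b := x) (i := r)
    rw [inv_inv] at h2
    rw [h2, hx]
    group
  obtain ⟨n, h2, h3⟩ := swap_tor hk m hy ht (by
    rw [MulAut.mul_apply, MulAut.conj_apply, map_mul, map_mul, map_inv, hF]; group) hr h5 htr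
    (fun h => h1 (by
      calc x = y * (y⁻¹ * x * y) * y⁻¹ := by group
        _ = 1 := by rw [h]; group))
  refine ⟨y * n * y⁻¹, ?_, fun J _ hJ hC a ha b hb => ?_⟩
  · rw [MulAut.mul_apply, MulAut.conj_apply] at h2
    rw [map_mul, map_mul, map_inv]
    conv_rhs => rw [← h2]
    group
  have hfin : Finite ↥(J.map (MulAut.conj y⁻¹).toMonoidHom) := Finite.of_equiv _
    (J.equivMapOfInjective _ (MulAut.conj y⁻¹).injective).toEquiv
  have h4 := perfect_leL isType CoxeterMatrix.F₄.toCoxeterSystem hk 2 ht hr htr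
    (J := J.map (MulAut.conj y⁻¹).toMonoidHom) (by
      rintro _ ⟨c, hc, rfl⟩
      rw [Subgroup.mem_centralizer_singleton_iff]
      have h6 := Subgroup.mem_centralizer_singleton_iff.1 (hC hc)
      change y⁻¹ * c * y⁻¹⁻¹ * _ = _ * (y⁻¹ * c * y⁻¹⁻¹)
      calc _ = y⁻¹ * (c * x) * y := by group
        _ = _ := by rw [h6]; group) (by rw [← Subgroup.map_commutator, hJ])
  have h6 : TorCent.MM CoxeterMatrix.F₄.toCoxeterSystem isType.isCartan (XX chevF4 4 k) (ch isType) (y⁻¹ * x * y) ≤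
      (Tw.datF4 hk m).S ((Tw.datF4 hk m).Sz {y⁻¹ * x * y}) := RGD.Sup_mono fun c hc => ⟨hc.1, by
    rintro _ rfl
    exact (χ_eq hk m hc.1 ht).trans hc.2⟩
  have h7 := h3 _ (h6 (h4 ⟨a, ha, rfl⟩)) _ (h6 (h4 ⟨b, hb, rfl⟩))
  change n * (y⁻¹ * a * y⁻¹⁻¹) * n⁻¹ * (y⁻¹ * b * y⁻¹⁻¹) = y⁻¹ * b * y⁻¹⁻¹ * (n * (y⁻¹ * a * y⁻¹⁻¹) * n⁻¹) at h7
  calc _ = y * (n * (y⁻¹ * a * y⁻¹⁻¹) * n⁻¹ * (y⁻¹ * b * y⁻¹⁻¹)) * y⁻¹ := by group
    _ = _ := by rw [h7]; group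

end Alg

/-- **The swapping element.** -/
theorem swap {K : Type} [Field K] [Fintype K] {m : ℕ} (hK : Fintype.card K = 2 ^ (2 * m + 1))
    {x : ↥(twistedF4 K (2 ^ m))} {r : ℕ} (hr : r.Prime) (h5 : 5 ≤ r) (hx : x ^ r = 1) (h1 : x ≠ 1) :
    ∃ n, ∀ P : Subgroup ↥(twistedF4 K (2 ^ m)), ⁅P, P⁆ = P → P ≤ Subgroup.centralizer {x} →
      ∀ a ∈ P, ∀ b ∈ P, n * a * n⁻¹ * b = b * (n * a * n⁻¹) := by
  obtain ⟨h2, h3, hk⟩ := Tw.setup' Nat.prime_two (Nat.succ_ne_zero _) hK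
  let f : K →+* AlgebraicClosure K := algebraMap _ _
  have hinj := H759.TwF.eF_injective (m := m) f
  obtain ⟨n, hn, h4⟩ := swap_alg hk m (x := H759.TwF.eF m f x) (H759.TwF.ste_eF hK f x) hr h5
    (by rw [← map_pow, hx, map_one]) fun h => h1 (hinj (h.trans (map_one _).symm))
  obtain ⟨n, rfl⟩ := H759.TwF.exists_eF hK f hn
  refine ⟨n, fun P hP hC a ha b hb => hinj ?_⟩
  have hfin : Finite ↥(P.map (H759.TwF.eF m f)) := Finite.of_equiv _ (P.equivMapOfInjective _ hinj).toEquiv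
  have h6 := h4 (P.map (H759.TwF.eF m f)) (by rw [← Subgroup.map_commutator, hP]) (by
    rintro _ ⟨c, hc, rfl⟩
    rw [Subgroup.mem_centralizer_singleton_iff, ← map_mul, ← map_mul,
      Subgroup.mem_centralizer_singleton_iff.1 (hC hc)]) _ ⟨a, ha, rfl⟩ _ ⟨b, hb, rfl⟩
  simpa only [map_mul, map_inv] using h6

end Cfsg.Agent.Cam.F42
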