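import Cfsg.Agent.H899.RG.ShortTab
import Cfsg.Agent.ChevalleyStructure.TwF4.Rel

/-!
# S3689, S3690, the row `²F₄(q)`: tables of the root system `F₄` (helper90)

Roots in the coordinates of `chevF4` (nodes `0, 1` short, `2, 3` long); `bf` is the invariant form (long `4`, short `2`).
-/

set_option autoImplicit false

namespace Cfsg.Agent.Cam.F42

open CoxeterSystem Cfsg.Lie Cfsg.Agent.ChevalleyStructure Cfsg.Agent.ChevalleyStructure.CoxeterGeom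
  Cfsg.Agent.ChevalleyStructure.CoxeterGeomTypes Cfsg.Agent.Tits.Roots Cfsg.Agent.Nodes.Coroot
  Cfsg.Agent.Nodes.RGDChev Cfsg.Agent.Nodes.KindF Cfsg.Agent.Nodes.KindChev Cfsg.Agent.UGT.U2.FOne.FFour

/-- vectors as tuples -/
abbrev T4 : Type := ℤ × ℤ × ℤ × ℤ

/-- Plücker coordinates -/
abbrev T6 : Type := ℤ × ℤ × ℤ × ℤ × ℤ × ℤ

def tv (t : T4) : Fin 4 → ℤ := ![t.1, t.2.1, t.2.2.1, t.2.2.2]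

def vt (a : Fin 4 → ℤ) : T4 := (a 0, a 1, a 2, a 3)

def ng (s : T4) : T4 := (-s.1, -s.2.1, -s.2.2.1, -s.2.2.2)

def ad (s t : T4) : T4 := (s.1 + t.1, s.2.1 + t.2.1, s.2.2.1 + t.2.2.1, s.2.2.2 + t.2.2.2)

def sb (s t : T4) : T4 := (s.1 - t.1, s.2.1 - t.2.1, s.2.2.1 - t.2.2.1, s.2.2.2 - t.2.2.2)

/-- the invariant form -/
def ip (s t : T4) : ℤ := (2 * s.1 - s.2.1) * t.1 + (2 * s.2.1 - s.1 - 2 * s.2.2.1) * t.2.1 +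
  (4 * s.2.2.1 - 2 * s.2.1 - 2 * s.2.2.2) * t.2.2.1 + (4 * s.2.2.2 - 2 * s.2.2.1) * t.2.2.2

def pl (s t : T4) : T6 := (s.1 * t.2.1 - s.2.1 * t.1, s.1 * t.2.2.1 - s.2.2.1 * t.1, s.1 * t.2.2.2 - s.2.2.2 * t.1,
  s.2.1 * t.2.2.1 - s.2.2.1 * t.2.1, s.2.1 * t.2.2.2 - s.2.2.2 * t.2.1, s.2.2.1 * t.2.2.2 - s.2.2.2 * t.2.2.1)

def pr (p q : T6) : ℤ := p.1 * q.2.2.2.2.2 - p.2.1 * q.2.2.2.2.1 + p.2.2.1 * q.2.2.2.1 + p.2.2.2.1 * q.2.2.1 -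
  p.2.2.2.2.1 * q.2.1 + p.2.2.2.2.2 * q.1

/-- the determinant -/
def dt (s t u v : T4) : ℤ := pr (pl s t) (pl u v)

/-- the long roots -/
def LL : List T4 := [(-2, -4, -3, -2), (-2, -4, -3, -1), (-2, -4, -2, -1), (-2, -2, -2, -1), (-2, -2, -1, -1), (-2, -2, -1, 0),
  (0, -2, -2, -1), (0, -2, -1, -1), (0, -2, -1, 0), (0, 0, -1, -1), (0, 0, -1, 0), (0, 0, 0, -1),
  (0, 0, 0, 1), (0, 0, 1, 0), (0, 0, 1, 1), (0, 2, 1, 0), (0, 2, 1, 1), (0, 2, 2, 1),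
  (2, 2, 1, 0), (2, 2, 1, 1), (2, 2, 2, 1), (2, 4, 2, 1), (2, 4, 3, 1), (2, 4, 3, 2)]

/-- the short roots -/
def SS : List T4 := [(-2, -3, -2, -1), (-1, -3, -2, -1), (-1, -2, -2, -1), (-1, -2, -1, -1), (-1, -2, -1, 0), (-1, -1, -1, -1),
  (-1, -1, -1, 0), (-1, -1, 0, 0), (-1, 0, 0, 0), (0, -1, -1, -1), (0, -1, -1, 0), (0, -1, 0, 0),
  (0, 1, 0, 0), (0, 1, 1, 0), (0, 1, 1, 1), (1, 0, 0, 0), (1, 1, 0, 0), (1, 1, 1, 0),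
  (1, 1, 1, 1), (1, 2, 1, 0), (1, 2, 1, 1), (1, 2, 2, 1), (1, 3, 2, 1), (2, 3, 2, 1)]

/-- the planes of the long `A₂` -/
def PL : List T6 := [(-4, -4, -2, -2, -2, -1), (-4, -4, -2, -2, 0, 1), (-4, -2, -2, 0, -2, -1), (-4, -2, -2, 2, 0, -1),
  (-4, -2, 0, 0, 2, 1), (-4, -2, 0, 2, 2, 1), (0, -2, -2, -4, -4, -1), (0, -2, -2, -2, -2, -1),
  (0, -2, 0, -4, 0, 1), (0, -2, 0, -2, 0, 1), (0, 0, -2, 0, -4, -3), (0, 0, -2, 0, -2, -1),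
  (0, 0, 0, -2, -2, -1), (0, 0, 0, -2, 0, 1), (0, 0, 0, 0, -2, -1), (0, 0, 0, 0, 0, -1),
  (0, 0, 0, 0, 0, 1), (0, 0, 0, 0, 2, 1), (0, 0, 0, 2, 0, -1), (0, 0, 0, 2, 2, 1),
  (0, 0, 2, 0, 2, 1), (0, 0, 2, 0, 4, 3), (0, 2, 0, 2, 0, -1), (0, 2, 0, 4, 0, -1),
  (0, 2, 2, 2, 2, 1), (0, 2, 2, 4, 4, 1), (4, 2, 0, -2, -2, -1), (4, 2, 0, 0, -2, -1),
  (4, 2, 2, -2, 0, 1), (4, 2, 2, 0, 2, 1), (4, 4, 2, 2, 0, -1), (4, 4, 2, 2, 2, 1)]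

/-- the planes of the short `A₂` -/
def PS : List T6 := [(-3, -2, -1, 0, 0, 0), (-1, -2, -1, -2, -1, 0), (-1, -1, -1, -1, -2, -1), (-1, -1, -1, -1, -1, 0),
  (-1, -1, -1, 0, -1, -1), (-1, -1, -1, 0, 0, 0), (-1, -1, 0, -1, 0, 0), (-1, -1, 0, -1, 1, 1),
  (-1, -1, 0, 0, 0, 0), (-1, -1, 0, 0, 1, 1), (-1, 0, -1, 1, -1, -1), (-1, 0, 0, 0, 0, 0),
  (-1, 0, 0, 1, 0, 0), (-1, 0, 0, 1, 1, 0), (-1, 0, 0, 2, 1, 0), (-1, 0, 1, 1, 2, 1),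
  (1, 0, -1, -1, -2, -1), (1, 0, 0, -2, -1, 0), (1, 0, 0, -1, -1, 0), (1, 0, 0, -1, 0, 0),
  (1, 0, 0, 0, 0, 0), (1, 0, 1, -1, 1, 1), (1, 1, 0, 0, -1, -1), (1, 1, 0, 0, 0, 0),
  (1, 1, 0, 1, -1, -1), (1, 1, 0, 1, 0, 0), (1, 1, 1, 0, 0, 0), (1, 1, 1, 0, 1, 1),
  (1, 1, 1, 1, 1, 0), (1, 1, 1, 1, 2, 1), (1, 2, 1, 2, 1, 0), (3, 2, 1, 0, 0, 0)]

theorem tab_vec : ∀ r < 48, vt (vec chevF4 4 r) ∈ LL ∨ vt (vec chevF4 4 r) ∈ SS := by decide +kernel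

theorem tab_vec' : ∀ t ∈ LL ++ SS, ∃ r < 48, vt (vec chevF4 4 r) = t := by decide +kernel

theorem tab_L : ∀ s ∈ LL, ip s s = 4 := by decide +kernel

theorem tab_S : ∀ s ∈ SS, ip s s = 2 := by decide +kernel

theorem tab_1 : ∀ s ∈ LL, ∀ t ∈ LL, ip s t = 0 → ∃ u ∈ SS, ad u u = sb s t := by decide +kernel

theorem tab_2 : ∀ s ∈ SS, ∀ t ∈ SS, ip s t = 0 → sb s t ∈ LL := by decide +kernel

set_option synthInstance.maxSize 1024 in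
theorem tab_3 : ∀ s ∈ LL, ∀ t ∈ SS, ip s t = 0 → ∃ s' ∈ LL, ip s' s = 0 ∧ ip s' t = 0 ∧ ∃ t' ∈ SS, ip t' s = 0 ∧
    ip t' t = 0 ∧ ip t' s' = 0 ∧ dt s t s' t' ∣ 24 ∧ (∀ u ∈ LL, ip u s = 0 → ip u t = 0 → u = s' ∨ u = ng s') ∧
    ∀ u ∈ SS, ip u s = 0 → ip u t = 0 → u = t' ∨ u = ng t' := by decide +kernel

theorem tab_4 : ∀ s ∈ LL, ∀ t ∈ LL, ip s t = 0 → ∃ c ∈ LL, ip c s = 0 ∧ ip c t = 0 ∧ ∃ c' ∈ LL, ip c' s = 0 ∧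
    ip c' t = 0 ∧ ip c' c = 0 ∧ dt s t c c' ∣ 24 ∧
    ∀ u ∈ LL, ip u s = 0 → ip u t = 0 → (u = c ∨ u = ng c) ∨ (u = c' ∨ u = ng c') := by decide +kernel

theorem tab_5L : ∀ s ∈ LL, ∀ t ∈ LL, ip s t ≠ 0 → (s = t ∨ s = ng t) ∨ pl s t ∈ PL := by decide +kernel

theorem tab_5S : ∀ s ∈ SS, ∀ t ∈ SS, ip s t ≠ 0 → (s = t ∨ s = ng t) ∨ pl s t ∈ PS := by decide +kernel

theorem tab_5 : ∀ p ∈ PL, ∀ q ∈ PS, pr p q ∣ 24 := by decide +kernel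

theorem tab_bar : ∀ r < 48, ip (vt (vec chevF4 4 (TwF4.Rel.bar r))) (vt (vec chevF4 4 (TwF4.Rel.bar r))) +
    ip (vt (vec chevF4 4 r)) (vt (vec chevF4 4 r)) = 6 := by decide +kernel

end Cfsg.Agent.Cam.F42
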